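import Mathlib
import Cfsg.Agent.Lib.Helper14.OCls.Defs
import Cfsg.Agent.Lib.Helper43.OrthOrders
import Cfsg.Agent.Lib.Helper43.OrthMinus

/-!
# OCLS package [ZEROS]: the number of zeros of the plus and minus forms
-/

set_option autoImplicit false

namespace Cfsg.Agent.Lib.Helper67.OCls

open Cfsg.Agent.Lib.Helper14.OCls Cfsg.Agent.Lib.Helper43

universe u

theorem pkgZerosPlus : Cfsg.Agent.Lib.Helper14.OCls.PkgZerosPlus.{u} := by
  intro F _ _ m
  have h1 : Nat.card {v : Fin m ⊕ Fin m → F // Cfsg.quadFormPlus m F v = 0} =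
      zeros (qGen (0 : QuadraticForm F (Empty → F)) m) := by
    rw [← zeros_qPlus, zeros]
    exact Nat.card_congr (Equiv.subtypeEquivRight (fun v => by rw [qPlus_apply]))
  have h2 := plus_Z (Fintype.card F) Fintype.card_pos
    (fun m => zeros (qGen (0 : QuadraticForm F (Empty → F)) m))
    (by
      show zeros (qGen (0 : QuadraticForm F (Empty → F)) 0) = 1
      rw [zeros_qGen_zero, zeros_empty])
    (by
      intro m
      have := zeros_qGen_succ (0 : QuadraticForm F (Empty → F)) m
      rw [(Fintype.card_eq_zero : Fintype.card Empty = 0)] at this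
      exact this) m
  rw [h1]
  have h3 : (Fintype.card F : ℤ) *
      ((zeros (qGen (0 : QuadraticForm F (Empty → F)) m) : ℕ) : ℤ) =
      (Fintype.card F : ℤ) ^ (2 * m) + (Fintype.card F : ℤ) ^ m * ((Fintype.card F : ℤ) - 1) := h2
  rw [h3]
  ring

theorem pkgZerosMinus : Cfsg.Agent.Lib.Helper14.OCls.PkgZerosMinus.{u} := by
  intro F _ _ a c hac m
  have hzm : zeros (qMinus a c m) = zeros (qGen (qBin a c) m) :=
    zeros_congr _ _ (LinearEquiv.funCongrLeft F F (Equiv.sumComm (Fin 2) (Fin m ⊕ Fin m)))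
      (fun _ => rfl)
  have h1 : Nat.card {v : (Fin m ⊕ Fin m) ⊕ Fin 2 → F // Cfsg.quadFormMinus m F a c v = 0} =
      zeros (qGen (qBin a c) m) := by
    rw [← hzm, zeros]
    exact Nat.card_congr (Equiv.subtypeEquivRight (fun v => by rw [qMinus_apply]))
  have h2 := minus_Z (Fintype.card F) Fintype.card_pos
    (fun m => zeros (qGen (qBin a c) m))
    (by
      show zeros (qGen (qBin a c) 0) = 1
      rw [zeros_qGen_zero, zeros_qBin a c hac])
    (by
      intro m
      have := zeros_qGen_succ (qBin a c) m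
      rw [Fintype.card_fin] at this
      exact this) m
  rw [h1]
  have h3 : (Fintype.card F : ℤ) * ((zeros (qGen (qBin a c) m) : ℕ) : ℤ) =
      (Fintype.card F : ℤ) ^ (2 * m + 2) -
        (Fintype.card F : ℤ) ^ (m + 1) * ((Fintype.card F : ℤ) - 1) := h2
  rw [h3]
  ring

end Cfsg.Agent.Lib.Helper67.OCls
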